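import Cfsg.Agent.H859.S8.SuzTri

/-!
# S4908, `Suz`: a character of degree 110 of `Suz` would have the value -25 at the image of `e 2` (helper859)

* `val_e2` : if `ψ 1 = 110` then `ψ (φ t2) = -25`, `t2 = e 2 ∈ C(e 1)`;
* `exists_seven` : an element of order 7 commuting with `φ t2`; `φ t2` has order 3.
-/

set_option autoImplicit false
set_option maxRecDepth 20000

namespace Cfsg.Agent.H859.S8.SuzE

open Cfsg Cfsg.Agent.Characters.Core Cfsg.Agent.H843.IMC
open Cfsg.Agent.LThreeCo1.Ev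
open Cfsg.Agent.LThreeCo1.AGrp (V lin Ph)
open Cfsg.Agent.LThreeCo1.Rel (a)
open Cfsg.Agent.SporadicStructure.Co0Matrix
open Cfsg.Agent.H299.K4.Orb Cfsg.Agent.H299.K4.Wt Cfsg.Agent.H299.K4.SuzC Cfsg.Agent.H299.K4.Suz143
open Cfsg.Agent.H299.K4.SuzX Cfsg.Agent.H759.S8.SuzSq Cfsg.Agent.H859.S8.SuzPerf Cfsg.Agent.H859.S8.SuzTri
open scoped ComplexConjugate

/-! ### the weights with first coordinate zero -/

/-- the codes of the differences -/
def dlit : List ℕ := [
  234, 54, 167, 219, 22, 223, 181, 188, 74, 6, 72, 117, 90, 41, 12, 112, 16, 28, 35, 83, 123, 81, 27, 180,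
  194, 165, 49, 169, 208, 215, 20, 33, 18, 88, 79, 142, 55, 101, 59, 26, 21, 159, 85, 160, 114, 24, 87,
  29, 127, 4, 52, 50, 107, 111, 105, 17, 224, 71, 172, 227, 228, 168, 166, 61, 14, 62, 113, 23, 86, 34,
  8, 132, 48, 46, 103, 110, 104, 92, 56, 146, 13, 68, 84, 69, 7, 136, 98, 137, 94, 58, 148, 15, 70, 89,
  65, 5, 138, 91, 139, 37, 163, 10, 201, 175, 32, 179, 191, 195, 43, 1, 3, 237, 57, 170, 222, 25, 217,
  184, 182, 77, 75, 36, 162, 9, 203, 174, 31, 178, 190, 197, 2, 42]

/-- the codes of the triples -/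
def tlit : List ℕ := [
  144, 205, 231, 134, 230, 209, 211, 154, 120, 153, 115, 141, 44, 140, 119, 121, 64, 30, 63, 193, 93, 189,
  177, 173, 125, 82, 124, 122, 218, 206, 199, 151, 108, 150, 118, 106, 99, 51, 11, 53, 202, 204, 147, 116,
  149, 183, 126, 95, 128, 131, 97, 130, 40, 73, 39, 232, 177, 161, 176, 236, 238, 100, 147, 99, 67, 210,
  63, 51, 47, 242, 199, 241, 239, 11, 80, 73, 187, 225, 186, 235, 196, 189, 141, 128, 143, 76, 78, 183,
  233, 185, 30, 216, 212, 218, 221, 214, 220, 157, 82, 156, 220, 120, 216, 204, 200, 152, 109, 151, 149,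
  164, 233, 226, 97, 135, 96, 145, 133, 126, 78, 38, 80, 229, 231, 93, 143, 95, 210, 153, 122, 155, 158,
  124, 157, 67, 19, 66, 198, 60, 39, 44, 230, 196, 229, 206, 185, 187, 130, 96, 129, 38, 40, 226, 192,
  225, 19, 214, 171, 213, 207, 176, 209, 119, 161, 118, 232, 211, 213, 156, 125, 158, 64, 66, 171, 221,
  173, 45, 240, 200, 242, 236, 202, 235, 145, 106, 144, 207, 212, 155, 121, 154, 164, 116, 100, 115, 109,
  102, 108, 45, 60, 47, 53, 239, 205, 238, 241, 198, 240, 150, 102, 152, 193, 186, 192, 129, 135, 131,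
  134, 140, 133, 76]

theorem dlit_eq : ((List.finRange 12 ×ˢ List.finRange 12).filter fun p => p.1 ≠ p.2).map (fun p =>
    code (fun i => W p.1 i - W p.2 i)) = dlit := by decide +kernel

theorem tlit_eq : (P3 Wl).map code = tlit := by decide +kernel

theorem all_lit : ((List.range 243).all fun n => (Nat.beq n 0) || dlit.contains n || tlit.contains n) = true := by
  decide +kernel

theorem cover {w : V} (h : w 0 = 0) : w = 0 ∨ (∃ i j : Fin 12, i ≠ j ∧ w = W i - W j) ∨ w ∈ P3 Wl := by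
  have hlt : code w < 243 := by
    have b : ∀ i, (w i).val < 3 := fun i => ZMod.val_lt _
    have b1 := b 1
    have b2 := b 2
    have b3 := b 3
    have b4 := b 4
    have b5 := b 5
    unfold code
    rw [h, ZMod.val_zero]
    omega
  have h1 := List.all_eq_true.1 all_lit (code w) (List.mem_range.2 hlt)
  simp only [Bool.or_eq_true, List.contains_iff_mem] at h1
  rcases h1 with (h1 | h1) | h1
  · left
    apply code_inj
    rw [Nat.eq_of_beq_eq_true h1]
    rfl
  · right
    left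
    rw [← dlit_eq] at h1
    obtain ⟨p, hp, h2⟩ := List.mem_map.1 h1
    have h3 := (List.mem_filter.1 hp).2
    exact ⟨p.1, p.2, by simpa using h3, (code_inj h2).symm⟩
  · right
    right
    rw [← tlit_eq] at h1
    obtain ⟨w', hw', h2⟩ := List.mem_map.1 h1
    rw [← code_inj h2]
    exact hw'

/-- the weights with first coordinate zero -/
noncomputable def V0 : Finset V := Finset.univ.filter fun w => w 0 = 0

theorem card_V0 : V0.card = 243 := by
  unfold V0
  decide +kernel

open Classical in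
/-- the differences -/
noncomputable def Dw : Finset V := Finset.univ.image fun p : PW => W p.1.1 - W p.1.2

open Classical in
/-- the remaining weights -/
noncomputable def Tw : Finset V := (V0 \ Dw).erase 0

theorem mem_V0 {w : V} : w ∈ V0 ↔ w 0 = 0 := by
  unfold V0
  rw [Finset.mem_filter]
  exact ⟨fun h => h.2, fun h => ⟨Finset.mem_univ _, h⟩⟩

theorem sub_zero' (i j : Fin 12) : (W i - W j) 0 = 0 := by
  show W i 0 - W j 0 = 0
  rw [W_zero, W_zero, sub_self]

theorem Dw_sub : Dw ⊆ V0 := by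
  classical
  intro w hw
  unfold Dw at hw
  obtain ⟨p, -, rfl⟩ := Finset.mem_image.1 hw
  exact mem_V0.2 (sub_zero' _ _)

theorem zero_not : (0 : V) ∉ Dw := by
  classical
  intro hw
  unfold Dw at hw
  obtain ⟨p, -, h⟩ := Finset.mem_image.1 hw
  exact p.2 (W_injective (sub_eq_zero.1 h))

theorem mem_Tw {w : V} (h : w ∈ Tw) : w ∈ P3 Wl := by
  classical
  unfold Tw at h
  obtain ⟨h0, h1⟩ := Finset.mem_erase.1 h
  obtain ⟨h2, h3⟩ := Finset.mem_sdiff.1 h1
  rcases cover (mem_V0.1 h2) with h4 | ⟨i, j, hij, h4⟩ | h4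
  · exact absurd h4 h0
  · exfalso
    apply h3
    unfold Dw
    exact Finset.mem_image.2 ⟨⟨(i, j), hij⟩, Finset.mem_univ _, h4.symm⟩
  · exact h4

theorem sum_split (g : V → ℂ) : ∑ w ∈ V0, g w = g 0 + ∑ w ∈ Dw, g w + ∑ w ∈ Tw, g w := by
  classical
  have h1 : ∑ w ∈ V0 \ Dw, g w + ∑ w ∈ Dw, g w = ∑ w ∈ V0, g w := Finset.sum_sdiff Dw_sub
  have h2 : g 0 + ∑ w ∈ Tw, g w = ∑ w ∈ V0 \ Dw, g w := by
    unfold Tw
    exact Finset.add_sum_erase (V0 \ Dw) g (Finset.mem_sdiff.2 ⟨mem_V0.2 rfl, zero_not⟩)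
  rw [← h1, ← h2]
  ring

theorem sum_Dw (g : V → ℂ) : ∑ w ∈ Dw, g w = ∑ p : PW, g (W p.1.1 - W p.1.2) := by
  classical
  unfold Dw
  rw [Finset.sum_image]
  intro p _ q _ h
  exact Subtype.ext (diff_inj p.2 q.2 h)

theorem sum_D_lam (v : E) : ∑ w ∈ Dw, lam w v = Θ (f v) - 12 := by
  rw [sum_Dw]
  have h := congrFun Θ_f v
  rw [Function.comp_apply, Pi.add_apply, Pi.smul_apply, Finset.sum_apply, smul_eq_mul, mul_one] at h
  rw [h]
  ring

/-! ### the values -/

/-- the vector of `e 2` -/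
def v1 : E := Multiplicative.ofAdd (Pi.single 1 1)

theorem χ_v1 : χ (f v1) = -6 := by
  have h2 : χ (f v1) = ∑ i : Fin 12, zp (W i 1) := by
    have := congrFun χ_f v1
    rw [Finset.sum_apply] at this
    rw [Function.comp_apply] at this
    rw [this]
    exact Finset.sum_congr rfl fun i _ => lam_single _ _
  rw [h2]
  have e1 : ∀ i : Fin 12, zp (W i 1) = if W i 1 = 1 then ζ else ζ ^ 2 := by
    intro i
    have h4 : ∀ i : Fin 12, W i 1 = 1 ∨ W i 1 = 2 := by decide +kernel
    rcases h4 i with h5 | h5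
    · rw [if_pos h5, h5, zp_one]
    · rw [if_neg (by rw [h5]; decide), h5]
      unfold zp
      rfl
  rw [Finset.sum_congr rfl fun i _ => e1 i, Finset.sum_ite, Finset.sum_const, Finset.sum_const]
  have e2 : (Finset.univ.filter fun i : Fin 12 => W i 1 = 1).card = 6 := by decide +kernel
  have e3 : (Finset.univ.filter fun i : Fin 12 => ¬ W i 1 = 1).card = 6 := by decide +kernel
  rw [e2, e3]
  have := ζ_sum
  simp only [nsmul_eq_mul]
  push_cast
  linear_combination 6 * this

theorem Θ_v1 : Θ (f v1) = 36 := by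
  unfold Θ
  rw [χ_v1, map_neg, Complex.conj_ofNat]
  norm_num

theorem lam_v1 (w : V) : lam w v1 = zp (w 1) := lam_single _ _

theorem lam_one' (w : V) : lam w 1 = 1 := (lamH w).map_one

theorem sum_V0_v1 : ∑ w ∈ V0, lam w v1 = 0 := by
  have h1 : ∑ w ∈ V0, lam w v1 = ∑ w ∈ V0, ζ * lam w v1 := by
    refine Finset.sum_nbij' (fun w => w - Pi.single 1 1) (fun w => w + Pi.single 1 1) ?_ ?_ ?_ ?_ ?_
    · intro w hw
      rw [mem_V0] at hw ⊢
      show w 0 - (Pi.single 1 1 : V) 0 = 0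
      rw [hw, Pi.single_eq_of_ne (by decide), sub_zero]
    · intro w hw
      rw [mem_V0] at hw ⊢
      show w 0 + (Pi.single 1 1 : V) 0 = 0
      rw [hw, Pi.single_eq_of_ne (by decide), add_zero]
    · intro w _
      exact sub_add_cancel _ _
    · intro w _
      exact add_sub_cancel_right _ _
    · intro w _
      have h2 : w = (w - Pi.single 1 1) + Pi.single 1 1 := (sub_add_cancel _ _).symm
      conv_lhs => rw [h2]
      rw [lam_add, lam_v1 (Pi.single 1 1), Pi.single_eq_same, zp_one, mul_comm]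
  rw [← Finset.mul_sum] at h1
  have h2 : (1 - ζ) * ∑ w ∈ V0, lam w v1 = 0 := by
    rw [sub_mul, one_mul, ← h1, sub_self]
  have hne : (1 : ℂ) - ζ ≠ 0 := sub_ne_zero.2 (ζ_prim.ne_one (by norm_num)).symm
  exact (mul_eq_zero.1 h2).resolve_left hne

theorem simpleX : IsSimpleGroup X := by
  obtain ⟨g⟩ := isoX
  have : IsSimpleGroup Spor.Suz := Cfsg.Agent.S1694.result.1
  have : Nontrivial X := g.toEquiv.nontrivial
  exact IsSimpleGroup.isSimpleGroup_of_surjective (G := Spor.Suz) g.symm.toMonoidHom g.symm.surjective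

theorem finX : Finite X := Finite.of_surjective φ φ_surj

theorem val_e2 {ψ : X → ℂ} (hψ : IsIrrCharacter X ψ) (h110 : ψ 1 = 110) : ψ (φ (f v1)) = -25 := by
  classical
  have := finX
  have := simpleX
  have := Fintype.ofFinite X
  have hc : IsCharacter E (ψ ∘ φ.comp f) := isCharacter_comp _ (isIrr_isCharacter hψ)
  obtain ⟨m, hm1, hm2⟩ := exists_mult hc
  have hcl : ∀ g h : X, ψ (g * h * g⁻¹) = ψ h := fun g h => isIrr_isClassFunction hψ h g
  have h0 : ∀ w, m w ≠ 0 → w 0 = 0 := by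
    intro w hw
    let u : E := Multiplicative.ofAdd (Pi.single 0 1)
    have e1 : (fun v => (ψ ∘ φ.comp f) (v * u)) = ψ ∘ φ.comp f := by
      funext v
      show ψ (φ (f (v * u))) = ψ (φ (f v))
      rw [map_mul, map_mul, f_single, φ_s1, mul_one]
    have e2 : (fun v => (ψ ∘ φ.comp f) (v * u)) = ∑ w, (m w * zp (w 0) : ℂ) • lam w := by
      funext v
      rw [hm2, Finset.sum_apply, Finset.sum_apply]
      refine Finset.sum_congr rfl fun w _ => ?_
      rw [Pi.smul_apply, Pi.smul_apply, smul_eq_mul, smul_eq_mul, lam_mul, lam_single]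
      ring
    have e3 : classInner (∑ w, (m w * zp (w 0) : ℂ) • lam w) (lam w) = m w * zp (w 0) := by
      rw [classInner_sum_left, Finset.sum_eq_single w]
      · rw [classInner_smul_left, classInner_irr_self (isIrr_lam w), mul_one]
      · intro w' _ hw'
        rw [classInner_smul_left, classInner_irr_ne (isIrr_lam w') (isIrr_lam w) (fun h => hw' (lam_injective h)),
          mul_zero]
      · intro h
        exact absurd (Finset.mem_univ w) h
    rw [← e2, e1, hm1] at e3
    apply zp_injective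
    rw [zp_zero]
    have hne : (m w : ℂ) ≠ 0 := Nat.cast_ne_zero.2 hw
    exact (mul_left_cancel₀ hne (by rw [← e3]; ring)).symm
  have hinv : ∀ {w w' : V}, Mv f (lam w) (lam w') → m w' = m w := by
    intro w w' h
    have h1 := (h.comp φ).inner hcl
    rw [hm1, hm1] at h1
    exact_mod_cast h1
  have hD : ∀ w ∈ Dw, m w = m (W 0 - W 1) := by
    intro w hw
    unfold Dw at hw
    obtain ⟨p, -, rfl⟩ := Finset.mem_image.1 hw
    exact hinv (mvD_all (by decide) p.2)
  have hT : ∀ w ∈ Tw, m w = m w0 := fun w hw => (hinv (mv_base (mem_Tw hw))).symm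
  have hval : ∀ v, ψ (φ (f v)) = m 0 + m (W 0 - W 1) * (Θ (f v) - 12) +
      m w0 * (∑ w ∈ V0, lam w v - 1 - (Θ (f v) - 12)) := by
    intro v
    have e1 : ψ (φ (f v)) = ∑ w, (m w : ℂ) * lam w v := by
      have := congrFun hm2 v
      rw [Finset.sum_apply] at this
      exact this
    have e2 : ∑ w, (m w : ℂ) * lam w v = ∑ w ∈ V0, (m w : ℂ) * lam w v := by
      refine (Finset.sum_subset (Finset.subset_univ V0) fun w _ hw => ?_).symm
      by_cases h : m w = 0
      · rw [h, Nat.cast_zero, zero_mul]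
      · exact absurd (mem_V0.2 (h0 w h)) hw
    have e3 : lam 0 v = 1 := by rw [lam_zero]
    have e4 := sum_split (fun w => lam w v)
    rw [sum_D_lam, e3] at e4
    have e5 : ∑ w ∈ Tw, lam w v = ∑ w ∈ V0, lam w v - 1 - (Θ (f v) - 12) := by
      rw [e4]
      ring
    rw [e1, e2, sum_split, e3, Finset.sum_congr rfl fun w hw => by rw [hD w hw],
      Finset.sum_congr (s₁ := Tw) rfl fun w hw => by rw [hT w hw], ← Finset.mul_sum, ← Finset.mul_sum, sum_D_lam, e5,
      mul_one]
  have hone : m 0 + m (W 0 - W 1) * 132 + m w0 * 110 = 110 := by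
    have e1 := hval 1
    have e2 : ∑ w ∈ V0, lam w 1 = 243 := by
      rw [Finset.sum_congr rfl fun w _ => lam_one' w, Finset.sum_const, card_V0]
      norm_num
    rw [map_one, map_one, h110, Θ_one, e2] at e1
    have e3 : ((m 0 + m (W 0 - W 1) * 132 + m w0 * 110 : ℕ) : ℂ) = ((110 : ℕ) : ℂ) := by
      push_cast
      linear_combination -e1
    exact_mod_cast e3
  have hv := hval v1
  rw [Θ_v1, sum_V0_v1] at hv
  have hmD : m (W 0 - W 1) = 0 := by omega
  rcases (by omega : m 0 = 110 ∧ m w0 = 0 ∨ m 0 = 0 ∧ m w0 = 1) with ⟨ha, hb⟩ | ⟨ha, hb⟩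
  · exfalso
    have hconst : ∀ v, ψ (φ (f v)) = ψ 1 := by
      intro v
      rw [hval v, ha, hb, hmD, h110]
      push_cast
      ring
    obtain ⟨v0, hv0⟩ := f_ne
    obtain ⟨K, hK, hKm⟩ := Cfsg.Agent.Blocks.BlockKer.exists_kernel hψ
    have hKt : K = ⊤ := by
      refine (hK.eq_bot_or_eq_top).resolve_left fun h => hv0 ?_
      have h1 : φ (f v0) ∈ K := (hKm _).2 (hconst v0)
      rw [h] at h1
      exact Subgroup.mem_bot.1 h1
    have h2 := Cfsg.Agent.H633.Principal.eq_one_of_ker_top ⟨ψ, hψ⟩ fun g => (hKm g).1 (by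
      rw [hKt]
      exact Subgroup.mem_top g)
    have h3 : ψ 1 = 1 := congrFun h2 1
    rw [h110] at h3
    norm_num at h3
  · rw [hv, ha, hb, hmD]
    push_cast
    ring

/-! ### the element of order 7 -/

/-- a word of order 42 commuting with `e 1`, `e 2` -/
def wd : List ℕ := [4, 31, 34]

/-- its powers -/
def wp (n : ℕ) : List ℕ := (List.replicate n wd).flatten

theorem k_e1 : eqB LThreeCo1.RelQ.M (wd ++ [1]) (1 :: wd) = true := by decide +kernel

theorem k_e2 : eqB LThreeCo1.RelQ.M (wd ++ [2]) (2 :: wd) = true := by decide +kernel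

theorem k_42 : eqB LThreeCo1.RelQ.M (wp 42) [] = true := by decide +kernel

theorem k_6 : neB' LThreeCo1.RelQ.M (wp 6) [] = true := by decide +kernel

/-- the element of `C` -/
noncomputable def g0 : C := ⟨(wd.map LThreeCo1.RelQ.e).prod, word_mem k_e1⟩

theorem g0_pow (n : ℕ) : ((g0 ^ n : C) : Co0) = ((wp n).map LThreeCo1.RelQ.e).prod := by
  induction n with
  | zero => simp [wp]
  | succ n ih =>
    have h : wp (n + 1) = wd ++ wp n := by
      unfold wp
      rw [List.replicate_succ, List.flatten_cons]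
    rw [h, List.map_append, List.prod_append, ← ih, pow_succ']
    rfl

theorem g0_42 : g0 ^ 42 = 1 := Subtype.ext (by
  rw [g0_pow, eq_of_eqB LThreeCo1.RelQ.rep k_42]
  rfl)

theorem g0_6 : g0 ^ 6 ≠ 1 := by
  intro h
  have h1 := ne_of_neB' LThreeCo1.RelQ.rep k_6
  rw [← g0_pow, h] at h1
  exact h1 rfl

theorem f_v1_val : ((f v1 : C) : Co0) = LThreeCo1.RelQ.e 2 := by
  show Ph a (Pi.single 1 1) = _
  unfold Ph
  simp only [Pi.single_eq_same, ZMod.val_one]
  have h : ∀ i : Fin 6, i ≠ 1 → ((Pi.single 1 1 : V) i).val = 0 := by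
    intro i hi
    rw [Pi.single_eq_of_ne hi, ZMod.val_zero]
  rw [h 0 (by decide), h 2 (by decide), h 3 (by decide), h 4 (by decide), h 5 (by decide)]
  simp [a]
  rfl

theorem g0_comm : Commute (f v1) g0 := by
  have h1 := eq_of_eqB LThreeCo1.RelQ.rep k_e2
  rw [List.map_append, List.prod_append, List.map_cons, List.prod_cons] at h1
  refine Subtype.ext ?_
  show (f v1 : Co0) * (wd.map LThreeCo1.RelQ.e).prod =
    (wd.map LThreeCo1.RelQ.e).prod * (f v1 : Co0)
  rw [f_v1_val]
  simpa using h1.symm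

theorem ker_six {g : C} (h : φ g = 1) : g ^ 6 = 1 := by
  obtain ⟨n, h1⟩ := ker_cases h
  have hc : Commute g (s1 ^ n) := (Commute.pow_right (s1_comm _).symm n)
  have h2 : (g * s1 ^ n) ^ 6 = 1 := by
    rcases h1 with h1 | h1
    · rw [h1, one_pow]
    · rw [h1, show (6 : ℕ) = 2 * 3 from rfl, pow_mul, pow_two, ng_sq, one_pow]
  have h3 : (s1 ^ n) ^ 6 = 1 := by
    rw [← pow_mul, mul_comm, show (6 : ℕ) = 3 * 2 from rfl, mul_assoc, pow_mul, s1_cube, one_pow]
  rwa [hc.mul_pow, h3, mul_one] at h2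

theorem exists_seven : ∃ y : X, orderOf y = 7 ∧ Commute (φ (f v1)) y := by
  have : Fact (Nat.Prime 7) := ⟨by norm_num⟩
  refine ⟨φ (g0 ^ 6), ?_, ?_⟩
  · have h7 : φ (g0 ^ 6) ^ 7 = 1 := by rw [← map_pow, ← pow_mul, g0_42, map_one]
    refine orderOf_eq_prime h7 fun h => g0_6 ?_
    have h1 := ker_six h
    have h2 : (g0 ^ 6) ^ 7 = 1 := by rw [← pow_mul, g0_42]
    rw [pow_succ, h1, one_mul] at h2
    exact h2
  · exact (g0_comm.pow_right 6).map φ

theorem orderOf_z : orderOf (φ (f v1)) = 3 := by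
  refine orderOf_eq_prime ?_ ?_
  · rw [← map_pow, ← map_pow]
    have h : v1 ^ 3 = 1 := by
      show Multiplicative.ofAdd (3 • (Pi.single 1 1 : V)) = 1
      have h1 : 3 • (Pi.single 1 1 : V) = 0 := by
        funext i
        revert i
        decide +kernel
      rw [h1]
      rfl
    rw [h, map_one, map_one]
  · intro h
    have h1 : Θ (f v1) = 144 := by rw [← WX_φ, h, ← map_one φ, WX_φ, Θ_one]
    rw [Θ_v1] at h1
    norm_num at h1

end Cfsg.Agent.H859.S8.SuzE
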