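import Cfsg.Agent.H859.S8.SuzDbl
import Cfsg.Agent.H859.S8.SuzE
import Cfsg.Agent.H686.S8.SuzNo220
import Cfsg.Agent.H365.S8.SuzSevenVal
import Cfsg.Agent.H759.S8.SuzThree

/-!
# S4908, the row `Suz`, COVER for the prime 2 (helper859)

`cover` : a perfect central extension of `Suz` by a group of order 2 has a faithful character of degree 110 or 220
(constituents of the exterior cube of the character of degree 12 of `6.Suz`); `k(Suz) ≤ 74` gives `i ≤ 3`; `55 * 2 ^ j` is
not a degree of `Suz` for `j ≤ 6` (`not_mem`, `no_110`, `no220`).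
-/

set_option autoImplicit false
set_option maxRecDepth 100000

namespace Cfsg.Agent.H859.S8.SuzTwo

open Cfsg Cfsg.Agent.Characters.Core Cfsg.Agent.H704.S8

universe u v

/-- 110 is not a degree -/
theorem no_110 {X : Type v} [Group X] (hX : Spor.IsoSuz X) : 110 ∉ charDegrees X := by
  intro hm
  obtain ⟨e⟩ := hX
  obtain ⟨e0⟩ := Cfsg.Agent.H299.K4.SuzX.isoX
  have h1 := H664.Eight.charDegrees_subset (e.trans e0.symm).symm hm
  have := SuzE.finX
  obtain ⟨ψ, h⟩ := h1
  obtain ⟨y, hy, hc⟩ := SuzE.exists_seven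
  have hψ1 : (ψ : Cfsg.Agent.H299.K4.SuzX.X → ℂ) 1 = 110 := by
    rw [Blocks.Knorr.charDegree_eq ψ.2, h]
    norm_num
  exact H365.S8.SuzSevenVal.val_ne Cfsg.Agent.H299.K4.SuzX.isoX ψ.2 hψ1 hy SuzE.orderOf_z hc (SuzE.val_e2 ψ.2 hψ1)

/-- **COVER, the prime 2** -/
theorem cover {X : Type v} [Group X] [Finite X] (hX : Spor.IsoSuz X) (D : Set ℕ) (hD : Deg 2 X D) :
    H529.S8.CoverAt.{u} 2 2 D X := by
  have hdeg : ∀ e ∈ D, e ∈ charDegrees X ∨ ∃ n ∈ charDegrees X, n ≠ 1 ∧ e = 2 * n := by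
    have hs : IsSimpleGroup Spor.Suz := Cfsg.Agent.S1694.result.1
    obtain ⟨eX⟩ := hX
    have hsX : IsSimpleGroup X := by
      have : Nontrivial X := eX.toEquiv.nontrivial
      exact IsSimpleGroup.isSimpleGroup_of_surjective (G := Spor.Suz) eX.symm.toMonoidHom eX.symm.surjective
    refine (H242.S8.deg_two' hsX ?_ (H952.S8.Suz.index_le ⟨eX⟩) hD).2
    intro hc
    have hc' : ∀ a b : X, a * b = b * a := fun a b => hc.is_comm.comm a b
    let _ : CommGroup X := { (inferInstance : Group X) with mul_comm := hc' }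
    have h1 : (Nat.card X).Prime := IsSimpleGroup.prime_card
    rw [Nat.card_congr eX.toEquiv, Cfsg.Agent.S1694.result.2] at h1
    norm_num at h1
  intro N _ _ V _ hV hc hp hN i hi
  have hk := H759.S8.SuzK.k_suz' hX
  have hi3 : i ≤ 3 := by
    by_contra hcon
    have h1 : 2 ^ (2 * 4) ≤ 2 ^ (2 * i) := Nat.pow_le_pow_right (by norm_num) (by omega)
    norm_num at h1
    omega
  obtain ⟨α, hα, hαV, hα1⟩ := SuzDbl.exists_tri hX V hV hc hp hN
  have key : ∀ m : ℕ, m ∉ charDegrees X → (∀ n, m = 2 * n → n ∉ charDegrees X) → m ∉ D := by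
    intro m h1 h2 hm
    rcases hdeg m hm with h | ⟨n, hn, -, h⟩
    · exact h1 h
    · exact h2 n h hn
  have h55 : 55 ∉ charDegrees X := H759.S8.SuzThree.not_mem hX (by decide)
  have h110 : 110 ∉ charDegrees X := no_110 hX
  have h220 : 220 ∉ charDegrees X := by
    rintro ⟨ψ, h⟩
    exact H686.S8.no220_irr hX ψ h
  have h440 : 440 ∉ charDegrees X := H759.S8.SuzThree.not_mem hX (by decide)
  have h880 : 880 ∉ charDegrees X := H759.S8.SuzThree.not_mem hX (by decide)
  have h1760 : 1760 ∉ charDegrees X := H759.S8.SuzThree.not_mem hX (by decide)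
  have h3520 : 3520 ∉ charDegrees X := H759.S8.SuzThree.not_mem hX (by decide)
  have two : ∀ {m k : ℕ}, m = 2 * k → m ∉ charDegrees X → k ∉ charDegrees X → m ∉ D := by
    intro m k hmk hm hk
    refine key m hm fun n hn => ?_
    have : n = k := by omega
    rwa [this]
  have d110 : 110 ∉ D := two (k := 55) (by norm_num) h110 h55
  have d220 : 220 ∉ D := two (k := 110) (by norm_num) h220 h110
  have d440 : 440 ∉ D := two (k := 220) (by norm_num) h440 h220
  have d880 : 880 ∉ D := two (k := 440) (by norm_num) h880 h440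
  have d1760 : 1760 ∉ D := two (k := 880) (by norm_num) h1760 h880
  have d3520 : 3520 ∉ D := two (k := 1760) (by norm_num) h3520 h1760
  rcases hα1 with hα1 | hα1
  · refine ⟨α, 110, hα, hαV, by rw [hα1]; norm_num, ?_⟩
    interval_cases i
    · exact ⟨d110, Or.inl d220⟩
    · exact ⟨d220, Or.inl d440⟩
    · exact ⟨d440, Or.inl d880⟩
    · exact ⟨d880, Or.inl d1760⟩
  · refine ⟨α, 220, hα, hαV, by rw [hα1]; norm_num, ?_⟩
    interval_cases i
    · exact ⟨d220, Or.inl d440⟩
    · exact ⟨d440, Or.inl d880⟩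
    · exact ⟨d880, Or.inl d1760⟩
    · exact ⟨d1760, Or.inl d3520⟩

end Cfsg.Agent.H859.S8.SuzTwo
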