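import Cfsg.Agent.H859.S8.SuzTri

/-!
# S4908, `Suz`: faithful characters of degree 110 or 220 of the double cover (helper859)

* `exists_tri` : every perfect central extension of `Suz` by a group of order 2 has a faithful irreducible character of
  degree 110 or 220 (`exists_tri0` : covers in `Type`).
-/

set_option autoImplicit false
set_option maxRecDepth 20000

namespace Cfsg.Agent.H859.S8.SuzDbl

open Cfsg Cfsg.Agent.Characters.Core Cfsg.Agent.H843.IMC
open Cfsg.Agent.LThreeCo1.AGrp (V lin)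
open Cfsg.Agent.H299.K4.Orb Cfsg.Agent.H299.K4.Wt Cfsg.Agent.H299.K4.SuzC Cfsg.Agent.H299.K4.Suz143
open Cfsg.Agent.H299.K4.SuzX Cfsg.Agent.H759.S8.SuzSq Cfsg.Agent.H859.S8.SuzPerf Cfsg.Agent.H859.S8.SuzTri
open Cfsg.Agent.H80.Fpf
open scoped ComplexConjugate

universe u v

theorem A3_s1 (g : C) : A3 (g * s1) = A3 g := by
  have hc : Commute g s1 := (s1_comm g).symm
  unfold A3
  have h2 : χ ((g * s1) ^ 2) = ζ ^ 2 * χ (g ^ 2) := by
    rw [hc.mul_pow, pow_two s1, ← mul_assoc, χ_s1, χ_s1]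
    ring
  have h3 : χ ((g * s1) ^ 3) = χ (g ^ 3) := by
    rw [hc.mul_pow, s1_cube, mul_one]
  rw [h2, h3, χ_s1]
  have hz := ζ_pow
  linear_combination ((χ g * χ g * χ g - 3 * (χ g * χ (g ^ 2))) / 6) * hz

theorem A3_pow (g : C) (n : ℕ) : A3 (g * s1 ^ n) = A3 g := by
  induction n with
  | zero => rw [pow_zero, mul_one]
  | succ n ih => rw [pow_succ, ← mul_assoc, A3_s1, ih]

theorem A3_ng (g : C) : A3 (g * ng) = -A3 g := by
  have hc : Commute g ng := (ng_comm g).symm
  unfold A3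
  have hn2 : ng ^ 2 = 1 := by rw [pow_two]; exact ng_sq
  have h2 : χ ((g * ng) ^ 2) = χ (g ^ 2) := by
    rw [hc.mul_pow, hn2, mul_one]
  have h3 : χ ((g * ng) ^ 3) = -χ (g ^ 3) := by
    rw [hc.mul_pow, pow_succ ng, hn2, one_mul, χ_ng]
  rw [h2, h3, χ_ng]
  ring

/-- translation by an element of the kernel -/
theorem mul_ker {G : Type*} [Group G] [Finite G] {β : G → ℂ} (hβ : IsIrrCharacter G β) {v : G} (h : β v = β 1) (g : G) :
    β (g * v) = β g := by
  obtain ⟨n, ρ, -, rfl⟩ := hβ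
  have h1 : ρ.character 1 = (Module.finrank ℂ (Fin n → ℂ) : ℂ) := Representation.char_one ρ
  rw [h1, Cfsg.Agent.Characters.Values.character_eq_finrank_iff] at h
  show LinearMap.trace ℂ _ (ρ (g * v)) = LinearMap.trace ℂ _ (ρ g)
  rw [map_mul, h]
  rfl

theorem exists_tri0 {G : Type} [Group G] [Finite G] {π : G →* Spor.Suz} (hπ : IsCover π) (h2 : Nat.card π.ker = 2) :
    ∃ β : G → ℂ, IsIrrCharacter G β ∧ (∃ v ∈ π.ker, β v ≠ β 1) ∧ (β 1 = 110 ∨ β 1 = 220) := by
  classical
  obtain ⟨θ, hθ, hθπ⟩ := exists_hom hπ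
  have := Fintype.ofFinite C
  have := Fintype.ofFinite G
  have hcardθ : Nat.card θ.ker = 3 := by
    have c1 := Subgroup.card_eq_card_quotient_mul_card_subgroup πC.ker
    have c2 := Subgroup.card_eq_card_quotient_mul_card_subgroup π.ker
    have c3 := Subgroup.card_eq_card_quotient_mul_card_subgroup θ.ker
    rw [Nat.card_congr (QuotientGroup.quotientKerEquivOfSurjective πC isCover_πC.surj).toEquiv, card_ker] at c1
    rw [Nat.card_congr (QuotientGroup.quotientKerEquivOfSurjective π hπ.surj).toEquiv, h2] at c2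
    rw [Nat.card_congr (QuotientGroup.quotientKerEquivOfSurjective θ hθ).toEquiv, c1, c2] at c3
    rw [Cfsg.Agent.S1694.result.2] at c3
    omega
  have hz3 : ∀ z, θ z = 1 → z ^ 3 = 1 := by
    intro z hz
    have h1 : (⟨z, hz⟩ : θ.ker) ^ Nat.card θ.ker = 1 := pow_card_eq_one'
    rw [hcardθ] at h1
    exact congrArg Subtype.val h1
  have hker : ∀ z, θ z = 1 → φ z = 1 := fun z hz => by
    have h1 : πC z = 1 := by rw [← hθπ, hz, map_one]
    exact (ker_iff z).1 h1
  have hn3 : ng ^ 3 = ng := by rw [pow_succ, pow_two, ng_sq, one_mul]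
  have hinv : ∀ z, θ z = 1 → ∀ u, A3 (u * z) = A3 u := by
    intro z hz u
    obtain ⟨n, h | h⟩ := ker_cases (hker z hz)
    · rw [← A3_pow (u * z) n, mul_assoc, h, mul_one]
    · exfalso
      apply ng_ne
      have hc : Commute z (s1 ^ n) := (Commute.pow_right (s1_comm _).symm n)
      rw [← hn3, ← h, hc.mul_pow, hz3 z hz, one_mul, ← pow_mul, mul_comm, pow_mul, s1_cube, one_pow]
  have hv0 : θ ng ∈ π.ker := by
    rw [MonoidHom.mem_ker, hθπ]
    exact (ker_iff ng).2 φ_ng
  let B : G → ℂ := fun g => A3 (Function.surjInv hθ g)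
  have hB : ∀ u, B (θ u) = A3 u := by
    intro u
    have h1 : θ (u⁻¹ * Function.surjInv hθ (θ u)) = 1 := by
      rw [map_mul, Function.surjInv_eq hθ (θ u), map_inv, inv_mul_cancel]
    have h2 := hinv _ h1 u
    rwa [mul_inv_cancel_left] at h2
  have hcomp : B ∘ θ = A3 := funext hB
  have hBc : IsCharacter G B := isCharacter_of_comp θ hθ (by rw [hcomp]; exact isCharacter_A3)
  have hB0 : B ≠ 0 := by
    intro h
    have h1 := congrFun h 1
    rw [← map_one θ, hB, A3_one] at h1
    norm_num at h1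
  obtain ⟨β, hβ⟩ := exists_constituent hBc hB0
  have hα : IsIrrCharacter C ((β : G → ℂ) ∘ θ) := isIrr_comp θ hθ β.2
  have h1 : classInner A3 ((β : G → ℂ) ∘ θ) ≠ 0 := by
    rw [← hcomp]
    have := Cfsg.Agent.H693.Defl.classInner_comp_surj θ hθ B (β : G → ℂ)
    show classInner (fun x => B (θ x)) (fun x => (β : G → ℂ) (θ x)) ≠ 0
    rw [this]
    exact hβ
  refine ⟨β, β.2, ⟨θ ng, hv0, fun h => hβ ?_⟩, ?_⟩
  · have hBn : ∀ g, B (g * θ ng) = -B g := by
      intro g
      obtain ⟨u, rfl⟩ := hθ g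
      rw [← map_mul, hB, hB, A3_ng]
    have h3 : classInner B (β : G → ℂ) = -classInner B (β : G → ℂ) := by
      have e1 : ∑ g : G, B g * conj ((β : G → ℂ) g) = -∑ g : G, B g * conj ((β : G → ℂ) g) := by
        have e2 := Equiv.sum_comp (Equiv.mulRight (θ ng)) (fun g => B g * conj ((β : G → ℂ) g))
        rw [← Finset.sum_neg_distrib, ← e2]
        refine Finset.sum_congr rfl fun g _ => ?_
        show B (g * θ ng) * conj ((β : G → ℂ) (g * θ ng)) = _
        rw [hBn, mul_ker β.2 h g]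
        ring
      rw [classInner_def, ← mul_neg, ← e1]
    exact self_eq_neg.1 h3
  · have h3 := K3 hα h1
    have h4 : ((β : G → ℂ) ∘ θ) 1 = (β : G → ℂ) 1 := by rw [Function.comp_apply, map_one]
    rwa [h4] at h3

/-- a perfect central extension of `Suz` by a group of order 2 -/
theorem exists_tri {N : Type u} [Group N] [Finite N] {X : Type v} [Group X] (hS : Spor.IsoSuz X) (V : Subgroup N)
    [V.Normal] (hV : Nat.card V = 2) (hc : V ≤ Subgroup.center N) (hp : commutator N = ⊤)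
    (hX : Nonempty ((N ⧸ V) ≃* X)) :
    ∃ α : N → ℂ, IsIrrCharacter N α ∧ (∃ v ∈ V, α v ≠ α 1) ∧ (α 1 = 110 ∨ α 1 = 220) := by
  obtain ⟨eS⟩ := hS
  obtain ⟨f⟩ := hX
  let E : Shrink.{0} N ≃* N := Shrink.mulEquiv
  have hfin : Finite (Shrink.{0} N) := Finite.of_equiv N E.symm.toEquiv
  let π : Shrink.{0} N →* Spor.Suz :=
    (eS.toMonoidHom.comp f.toMonoidHom).comp ((QuotientGroup.mk' V).comp E.toMonoidHom)
  have hker : ∀ x : Shrink.{0} N, x ∈ π.ker ↔ E x ∈ V := by
    intro x
    rw [MonoidHom.mem_ker]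
    show eS (f (QuotientGroup.mk' V (E x))) = 1 ↔ _
    rw [EmbeddingLike.map_eq_one_iff, EmbeddingLike.map_eq_one_iff]
    exact QuotientGroup.eq_one_iff _
  have hπ : IsCover π := by
    refine ⟨?_, ?_, ?_⟩
    · intro m
      obtain ⟨x, hx⟩ := QuotientGroup.mk'_surjective V (f.symm (eS.symm m))
      refine ⟨E.symm x, ?_⟩
      show eS (f (QuotientGroup.mk' V (E (E.symm x)))) = m
      rw [E.apply_symm_apply, hx, f.apply_symm_apply, eS.apply_symm_apply]
    · intro x hx
      rw [Subgroup.mem_center_iff]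
      intro y
      apply E.injective
      rw [map_mul, map_mul]
      exact Subgroup.mem_center_iff.1 (hc ((hker x).1 hx)) (E y)
    · have h2 : (commutator (Shrink.{0} N)).map E.toMonoidHom = commutator N := by
        rw [commutator_def, commutator_def, Subgroup.map_commutator, ← MonoidHom.range_eq_map]
        have h3 : E.toMonoidHom.range = ⊤ := MonoidHom.range_eq_top.2 E.surjective
        rw [h3]
      rw [hp] at h2
      rw [eq_top_iff]
      intro x _
      have h3 : E x ∈ (commutator (Shrink.{0} N)).map E.toMonoidHom := by rw [h2]; trivial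
      obtain ⟨y, hy, hyx⟩ := h3
      have h4 : y = x := E.injective hyx
      rwa [← h4]
  have h3 : Nat.card π.ker = 2 := by
    rw [← hV]
    exact Nat.card_congr
      { toFun := fun x => ⟨E x, (hker x).1 x.2⟩
        invFun := fun y => ⟨E.symm y, (hker _).2 (by rw [E.apply_symm_apply]; exact y.2)⟩
        left_inv := fun x => Subtype.ext (E.symm_apply_apply x)
        right_inv := fun y => Subtype.ext (E.apply_symm_apply y) }
  obtain ⟨α, hα, ⟨v, hv, hne⟩, h1⟩ := exists_tri0 hπ h3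
  refine ⟨α ∘ E.symm, isIrr_comp E.symm.toMonoidHom E.symm.surjective hα, ⟨E v, (hker v).1 hv, ?_⟩, ?_⟩
  · show α (E.symm (E v)) ≠ α (E.symm 1)
    rw [E.symm_apply_apply, map_one]
    exact hne
  · show α (E.symm 1) = 110 ∨ α (E.symm 1) = 220
    rw [map_one]
    exact h1

end Cfsg.Agent.H859.S8.SuzDbl
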