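import Cfsg.Agent.H759.S8.SuzSq
import Cfsg.Agent.LThreeCo1.RelQ

/-!
# S4908, `Suz`: the centralizer of `e 1` in `Co0` is the sixfold cover of `Suz` (helper859)

`-1 = e32 ^ 2` is in the derived subgroup of `C = C(e 1)`, so `C` is perfect; `πC : C → Suz` is a cover with a kernel of
order 6; `exists_hom`: it maps onto every cover.
-/

set_option autoImplicit false
set_option maxRecDepth 20000

namespace Cfsg.Agent.H859.S8.SuzPerf

open Cfsg Cfsg.Agent.Characters.Core Cfsg.Agent.H843.IMC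
open Cfsg.Agent.LThreeCo1.Ev
open Cfsg.Agent.LThreeCo1.AGrp Cfsg.Agent.LThreeCo1.Rel Cfsg.Agent.LThreeCo1.Class
open Cfsg.Agent.H299.K4.Orb Cfsg.Agent.H299.K4.Wt Cfsg.Agent.H299.K4.SuzC Cfsg.Agent.H299.K4.Suz143
open Cfsg.Agent.H299.K4.SuzX Cfsg.Agent.H759.S8.SuzSq
open Cfsg.Agent.SporadicStructure.Co0Matrix Cfsg.Agent.CoOneType.CoEval
open Cfsg.Agent.SporadicStructure Cfsg.Agent.SporadicA.Co1Simple
open Cfsg.Agent.H80.Fpf

theorem e1_eq : LThreeCo1.RelQ.e 1 = e 1 := rfl

theorem e2_eq : LThreeCo1.RelQ.e 2 = e 2 := rfl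

/-- a word of `RelQ` commuting with `e 1` -/
theorem word_mem {w : List ℕ} (h : eqB LThreeCo1.RelQ.M (w ++ [1]) (1 :: w) = true) :
    (w.map LThreeCo1.RelQ.e).prod ∈ C := by
  rw [mem_C, ← e1_eq]
  have h1 := eq_of_eqB LThreeCo1.RelQ.rep h
  rw [List.map_append, List.prod_append, List.map_cons, List.prod_cons] at h1
  simpa using h1

theorem k32 : eqB LThreeCo1.RelQ.M ([32] ++ [1]) (1 :: [32]) = true := by decide +kernel

theorem n32 : negB LThreeCo1.RelQ.M [32, 32] = true := by decide +kernel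

theorem neg_eq : Cfsg.Agent.SporadicA.Co0Basic.negCo0 = Cfsg.Agent.SporadicA.Co0Mono.signCo0 allOne := by
  apply Cfsg.Agent.SporadicA.Co0Mono.ext
  intro v
  rw [allOne_smul]
  exact Cfsg.Agent.SporadicA.Co0Basic.negCo0_apply v

/-- `e32` -/
noncomputable def t32 : C := ⟨([32].map LThreeCo1.RelQ.e).prod, word_mem k32⟩

theorem t32_sq : t32 * t32 = ng := by
  apply Subtype.ext
  show ([32].map LThreeCo1.RelQ.e).prod * ([32].map LThreeCo1.RelQ.e).prod = Cfsg.Agent.SporadicA.Co0Mono.signCo0 allOne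
  rw [← neg_eq, ← eq_neg_of_negB LThreeCo1.RelQ.rep n32, ← List.prod_append, ← List.map_append]
  rfl

theorem ng_sq : ng * ng = 1 := Subtype.ext (Cfsg.Agent.SporadicA.Co0Mono.signCo0_mul_self _)

theorem ng_mem : ng ∈ commutator C := by
  obtain ⟨l, hl, h | h⟩ := exists_mul t32
  · rw [← t32_sq, h]
    exact mul_mem hl hl
  · rw [← t32_sq, h]
    have h1 : l * ng * (l * ng) = l * l := by
      rw [mul_assoc, ← mul_assoc ng l ng, ng_comm l, mul_assoc l ng ng, ng_sq, mul_one]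
    rw [h1]
    exact mul_mem hl hl

theorem perfC : commutator C = ⊤ := by
  rw [eq_top_iff]
  intro g _
  obtain ⟨l, hl, rfl | rfl⟩ := exists_mul g
  · exact hl
  · exact mul_mem hl ng_mem

/-- `C → Suz` -/
noncomputable def πC : C →* Spor.Suz := eX.toMonoidHom.comp φ

theorem πC_apply (g : C) : πC g = eX (φ g) := rfl

theorem ker_iff (g : C) : g ∈ πC.ker ↔ φ g = 1 := by
  rw [MonoidHom.mem_ker, πC_apply, EmbeddingLike.map_eq_one_iff]

theorem isCover_πC : IsCover πC where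
  surj := eX.surjective.comp φ_surj
  central := fun g hg => ker_le ((ker_iff g).1 hg)
  perf := perfC

theorem φ_ng : φ ng = 1 := by
  have h : t32 * t32 = ng := t32_sq
  have h1 : ng ∈ φ.ker := by
    rw [MonoidHom.mem_ker]
    have h2 : (φ ng) = φ 1 := by
      rw [φ_apply, φ_apply]
      refine (LThreeMB.mk_eq_mk (comm_s ng) (comm_s 1)).2 ⟨0, ?_⟩
      rw [zpow_zero, mul_one]
      show (CoOneType.ClosingFacts.mk (Cfsg.Agent.SporadicA.Co0Mono.signCo0 allOne)) = CoOneType.ClosingFacts.mk 1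
      rw [CoOneType.ClosingFacts.mk_eq]
      right
      rw [one_mul]
    rw [h2, map_one]
  exact h1

theorem s1_ne : s1 ≠ 1 := by
  intro h
  have h1 := χ_s1 1
  rw [one_mul, h, χ_one] at h1
  have h2 : ζ = 1 := by
    have : (12 : ℂ) * ζ = 12 * 1 := by rw [mul_comm, ← h1, mul_one]
    exact mul_left_cancel₀ (by norm_num) this
  have h3 := ζ_sum
  rw [h2] at h3
  norm_num at h3

theorem ng_ne : ng ≠ 1 := by
  intro h
  have h1 := χ_ng1
  rw [h, χ_one] at h1
  norm_num at h1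

theorem orderOf_s1 : orderOf s1 = 3 := orderOf_eq_prime s1_cube s1_ne

theorem orderOf_ng : orderOf ng = 2 := orderOf_eq_prime (by rw [pow_two]; exact ng_sq) ng_ne

instance finC : Finite C := inferInstance

instance finSuz : Finite Spor.Suz := Nat.finite_of_card_ne_zero (by rw [Cfsg.Agent.S1694.result.2]; norm_num)

theorem multDvd : MultDvd Spor.Suz 6 := multDvd_of_cyclic (by norm_num) Cfsg.Agent.S2048.result

theorem card_ker : Nat.card πC.ker = 6 := by
  have h6 : Nat.card πC.ker ∣ 6 := multDvd C πC isCover_πC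
  have h2 : 2 ∣ Nat.card πC.ker := by
    have := Subgroup.orderOf_dvd_natCard πC.ker ((ker_iff ng).2 φ_ng)
    rwa [orderOf_ng] at this
  have h3 : 3 ∣ Nat.card πC.ker := by
    have := Subgroup.orderOf_dvd_natCard πC.ker ((ker_iff s1).2 φ_s1)
    rwa [orderOf_s1] at this
  exact Nat.dvd_antisymm h6 (Nat.Coprime.mul_dvd_of_dvd_of_dvd (m := 2) (n := 3) (by norm_num) h2 h3)

theorem exists_hom {G : Type} [Group G] [Finite G] {π : G →* Spor.Suz} (hπ : IsCover π) :
    ∃ θ : C →* G, Function.Surjective θ ∧ ∀ u, π (θ u) = πC u :=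
  exists_of_universal (by norm_num) multDvd isCover_πC card_ker hπ

end Cfsg.Agent.H859.S8.SuzPerf
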