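import Cfsg.Agent.H859.S8.SuzPerf
import Cfsg.Agent.H447.CTabLam
import Cfsg.Agent.H693.Defl
import Cfsg.Agent.H843.IMC.Free

/-!
# S4908, `Suz`: the exterior cube of the character of degree 12 of `6.Suz` (helper859)

* `K3` : the constituents of the exterior cube (degree 220) have degree 110 or 220;
* `exists_tri` : every perfect central extension of `Suz` by a group of order 2 has a faithful irreducible character of
  degree 110 or 220.
-/

set_option autoImplicit false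
set_option maxRecDepth 20000

namespace Cfsg.Agent.H859.S8.SuzTri

open Cfsg Cfsg.Agent.Characters.Core Cfsg.Agent.H843.IMC
open Cfsg.Agent.LThreeCo1.AGrp (V lin)
open Cfsg.Agent.H299.K4.Orb Cfsg.Agent.H299.K4.Wt Cfsg.Agent.H299.K4.SuzC Cfsg.Agent.H299.K4.Suz143
open Cfsg.Agent.H299.K4.SuzX Cfsg.Agent.H759.S8.SuzSq Cfsg.Agent.H859.S8.SuzPerf
open Cfsg.Agent.H80.Fpf
open scoped ComplexConjugate

universe u v

/-! ### Newton -/

/-- the second elementary symmetric function -/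
def E2 : List ℂ → ℂ
  | [] => 0
  | a :: l => a * l.sum + E2 l

/-- the third elementary symmetric function -/
def E3 : List ℂ → ℂ
  | [] => 0
  | a :: l => a * E2 l + E3 l

theorem newton2 (l : List ℂ) : l.sum ^ 2 - (l.map (· ^ 2)).sum = 2 * E2 l := by
  induction l with
  | nil => simp [E2]
  | cons a l ih =>
    simp only [List.sum_cons, List.map_cons, E2]
    linear_combination ih

theorem newton3 (l : List ℂ) :
    l.sum * l.sum * l.sum - 3 * (l.sum * (l.map (· ^ 2)).sum) + 2 * (l.map (· ^ 3)).sum = 6 * E3 l := by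
  induction l with
  | nil => simp [E3]
  | cons a l ih =>
    have h2 := newton2 l
    simp only [List.sum_cons, List.map_cons, E3]
    linear_combination ih + 3 * a * h2

/-- the sums of two weights -/
def P2 : List V → List V
  | [] => []
  | a :: l => l.map (a + ·) ++ P2 l

/-- the sums of three weights -/
def P3 : List V → List V
  | [] => []
  | a :: l => (P2 l).map (a + ·) ++ P3 l

theorem sum_add_map (a : V) (l : List V) (v : E) :
    ((l.map (a + ·)).map fun w => lam w v).sum = lam a v * (l.map fun w => lam w v).sum := by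
  induction l with
  | nil => simp
  | cons b l ih =>
    simp only [List.map_cons, List.sum_cons] at ih ⊢
    rw [ih, lam_add]
    ring

theorem E2_eq (l : List V) (v : E) : E2 (l.map fun w => lam w v) = ((P2 l).map fun w => lam w v).sum := by
  induction l with
  | nil => simp [E2, P2]
  | cons a l ih =>
    simp only [List.map_cons, E2, P2, List.map_append, List.sum_append]
    rw [ih, ← sum_add_map, List.map_map]

theorem E3_eq (l : List V) (v : E) : E3 (l.map fun w => lam w v) = ((P3 l).map fun w => lam w v).sum := by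
  induction l with
  | nil => simp [E3, P3]
  | cons a l ih =>
    simp only [List.map_cons, E3, P3, List.map_append, List.sum_append]
    rw [ih, E2_eq, ← sum_add_map]

/-! ### the exterior cube -/

/-- the exterior cube -/
noncomputable def A3 : C → ℂ := fun g => (χ g * χ g * χ g - 3 * (χ g * χ (g ^ 2)) + 2 * χ (g ^ 3)) / 6

theorem isCharacter_A3 : IsCharacter C A3 := Cfsg.Agent.H447.CTab.ext_three isChar

theorem A3_one : A3 1 = 220 := by
  unfold A3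
  rw [one_pow, one_pow, χ_one]
  norm_num

/-- the list of the weights -/
def Wl : List V := List.ofFn W

theorem χ_fl (v : E) : χ (f v) = (Wl.map fun w => lam w v).sum := by
  have h := congrFun χ_f v
  rw [Finset.sum_apply] at h
  rw [Function.comp_apply] at h
  rw [h, Wl, List.map_ofFn, List.sum_ofFn]
  rfl

theorem lam_pow (w : V) (v : E) (n : ℕ) : lam w (v ^ n) = lam w v ^ n := (lamH w).map_pow v n

theorem A3_fl (v : E) : A3 (f v) = ((P3 Wl).map fun w => lam w v).sum := by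
  have h2 : χ (f v ^ 2) = ((Wl.map fun w => lam w v).map (· ^ 2)).sum := by
    rw [← map_pow, χ_fl, List.map_map]
    congr 1
    apply List.map_congr_left
    intro w _
    exact lam_pow w v 2
  have h3 : χ (f v ^ 3) = ((Wl.map fun w => lam w v).map (· ^ 3)).sum := by
    rw [← map_pow, χ_fl, List.map_map]
    congr 1
    apply List.map_congr_left
    intro w _
    exact lam_pow w v 3
  unfold A3
  rw [h2, h3, χ_fl, newton3, E3_eq]
  ring

/-! ### the triples -/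

/-- the triples, with the words which move the weight to the base -/
def tb : List ((Fin 12 × Fin 12 × Fin 12) × ℕ × ℕ × ℕ) := [
  ((0, 1, 2), 0, 9, 7), ((0, 1, 3), 0, 0, 0), ((0, 1, 4), 1, 1, 5), ((0, 1, 5), 4, 6, 2), ((0, 1, 6), 0, 0, 1), ((0, 1, 7), 0, 2, 10),
  ((0, 1, 8), 1, 6, 2), ((0, 1, 9), 0, 2, 7), ((0, 1, 10), 1, 1, 8), ((0, 1, 11), 0, 1, 4), ((0, 2, 3), 0, 3, 9), ((0, 2, 4), 1, 1, 6),
  ((0, 2, 5), 0, 3, 8), ((0, 2, 6), 0, 1, 2), ((0, 2, 7), 1, 3, 3), ((0, 2, 8), 0, 2, 4), ((0, 2, 9), 0, 4, 4), ((0, 2, 10), 0, 4, 7),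
  ((0, 2, 11), 2, 1, 5), ((0, 3, 4), 3, 0, 1), ((0, 3, 5), 1, 0, 4), ((0, 3, 6), 0, 1, 10), ((0, 3, 7), 1, 3, 2), ((0, 3, 8), 0, 0, 3),
  ((0, 3, 9), 0, 9, 10), ((0, 3, 10), 0, 2, 8), ((0, 3, 11), 1, 0, 1), ((0, 4, 5), 1, 6, 3), ((0, 4, 6), 0, 0, 2), ((0, 4, 7), 0, 1, 9),
  ((0, 4, 8), 6, 0, 1), ((0, 4, 9), 0, 4, 3), ((0, 4, 10), 0, 0, 5), ((0, 4, 11), 0, 4, 2), ((0, 5, 6), 1, 1, 10), ((0, 5, 7), 3, 1, 8),
  ((0, 5, 8), 0, 3, 7), ((0, 5, 9), 0, 0, 10), ((0, 5, 10), 0, 7, 2), ((0, 5, 11), 5, 6, 2), ((0, 6, 7), 0, 5, 7), ((0, 6, 8), 0, 3, 10),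
  ((0, 6, 9), 0, 2, 6), ((0, 6, 10), 0, 2, 5), ((0, 6, 11), 2, 6, 2), ((0, 7, 8), 2, 4, 3), ((0, 7, 9), 0, 9, 2), ((0, 7, 10), 7, 0, 1),
  ((0, 7, 11), 2, 1, 8), ((0, 8, 9), 1, 2, 8), ((0, 8, 10), 0, 10, 7), ((0, 8, 11), 0, 1, 1), ((0, 9, 10), 1, 2, 9), ((0, 9, 11), 0, 8, 2),
  ((0, 10, 11), 0, 5, 9), ((1, 2, 3), 0, 1, 8), ((1, 2, 4), 1, 3, 2), ((1, 2, 5), 3, 6, 2), ((1, 2, 6), 0, 4, 9), ((1, 2, 7), 0, 1, 5),
  ((1, 2, 8), 1, 10, 7), ((1, 2, 9), 0, 6, 2), ((1, 2, 10), 0, 2, 6), ((1, 2, 11), 0, 3, 7), ((1, 3, 4), 0, 8, 10), ((1, 3, 5), 0, 2, 1),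
  ((1, 3, 6), 2, 1, 5), ((1, 3, 7), 0, 0, 10), ((1, 3, 8), 2, 0, 4), ((1, 3, 9), 8, 0, 1), ((1, 3, 10), 6, 0, 1), ((1, 3, 11), 0, 2, 9),
  ((1, 4, 5), 0, 1, 7), ((1, 4, 6), 0, 7, 2), ((1, 4, 7), 0, 1, 6), ((1, 4, 8), 0, 8, 2), ((1, 4, 9), 0, 10, 10), ((1, 4, 10), 0, 3, 3),
  ((1, 4, 11), 0, 3, 4), ((1, 5, 6), 0, 0, 4), ((1, 5, 7), 0, 6, 3), ((1, 5, 8), 0, 1, 10), ((1, 5, 9), 1, 1, 6), ((1, 5, 10), 2, 1, 8),
  ((1, 5, 11), 0, 8, 7), ((1, 6, 7), 2, 0, 1), ((1, 6, 8), 1, 5, 2), ((1, 6, 9), 2, 4, 3), ((1, 6, 10), 0, 3, 2), ((1, 6, 11), 1, 2, 4),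
  ((1, 7, 8), 0, 4, 7), ((1, 7, 9), 5, 0, 1), ((1, 7, 10), 0, 10, 2), ((1, 7, 11), 0, 0, 2), ((1, 8, 9), 1, 1, 3), ((1, 8, 10), 0, 0, 9),
  ((1, 8, 11), 1, 4, 4), ((1, 9, 10), 1, 4, 3), ((1, 9, 11), 0, 2, 8), ((1, 10, 11), 1, 3, 9), ((2, 3, 4), 1, 4, 4), ((2, 3, 5), 1, 1, 8),
  ((2, 3, 6), 5, 0, 1), ((2, 3, 7), 0, 3, 10), ((2, 3, 8), 2, 4, 10), ((2, 3, 9), 0, 6, 10), ((2, 3, 10), 0, 5, 3), ((2, 3, 11), 0, 4, 3),
  ((2, 4, 5), 2, 6, 2), ((2, 4, 6), 1, 0, 7), ((2, 4, 7), 0, 3, 2), ((2, 4, 8), 0, 6, 9), ((2, 4, 9), 0, 10, 7), ((2, 4, 10), 1, 5, 9),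
  ((2, 4, 11), 0, 7, 10), ((2, 5, 6), 2, 2, 5), ((2, 5, 7), 0, 2, 2), ((2, 5, 8), 0, 9, 2), ((2, 5, 9), 1, 5, 2), ((2, 5, 10), 0, 2, 3),
  ((2, 5, 11), 0, 1, 6), ((2, 6, 7), 0, 5, 10), ((2, 6, 8), 1, 1, 5), ((2, 6, 9), 1, 0, 4), ((2, 6, 10), 0, 8, 7), ((2, 6, 11), 7, 0, 1),
  ((2, 7, 8), 0, 2, 1), ((2, 7, 9), 0, 1, 4), ((2, 7, 10), 1, 6, 3), ((2, 7, 11), 0, 7, 7), ((2, 8, 9), 0, 5, 2), ((2, 8, 10), 1, 0, 1),
  ((2, 8, 11), 1, 4, 3), ((2, 9, 10), 0, 8, 10), ((2, 9, 11), 0, 1, 3), ((2, 10, 11), 4, 0, 1), ((3, 4, 5), 2, 0, 6), ((3, 4, 6), 6, 6, 2),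
  ((3, 4, 7), 0, 5, 9), ((3, 4, 8), 0, 3, 8), ((3, 4, 9), 0, 0, 1), ((3, 4, 10), 0, 6, 3), ((3, 4, 11), 0, 5, 10), ((3, 5, 6), 0, 1, 9),
  ((3, 5, 7), 1, 2, 4), ((3, 5, 8), 0, 10, 10), ((3, 5, 9), 0, 1, 1), ((3, 5, 10), 0, 7, 10), ((3, 5, 11), 0, 0, 8), ((3, 6, 7), 0, 2, 3),
  ((3, 6, 8), 1, 2, 9), ((3, 6, 9), 0, 6, 9), ((3, 6, 10), 0, 4, 10), ((3, 6, 11), 0, 3, 3), ((3, 7, 8), 0, 1, 3), ((3, 7, 9), 0, 0, 9),
  ((3, 7, 10), 1, 4, 10), ((3, 7, 11), 1, 2, 5), ((3, 8, 9), 1, 0, 6), ((3, 8, 10), 0, 4, 9), ((3, 8, 11), 0, 2, 10), ((3, 9, 10), 1, 3, 3),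
  ((3, 9, 11), 3, 6, 2), ((3, 10, 11), 1, 1, 10), ((4, 5, 6), 0, 1, 8), ((4, 5, 7), 1, 6, 2), ((4, 5, 8), 1, 2, 5), ((4, 5, 9), 1, 3, 9),
  ((4, 5, 10), 0, 9, 10), ((4, 5, 11), 0, 5, 2), ((4, 6, 7), 0, 4, 4), ((4, 6, 8), 4, 0, 1), ((4, 6, 9), 1, 4, 10), ((4, 6, 10), 1, 1, 3),
  ((4, 6, 11), 0, 0, 3), ((4, 7, 8), 0, 0, 7), ((4, 7, 9), 0, 6, 7), ((4, 7, 10), 2, 4, 10), ((4, 7, 11), 8, 0, 1), ((4, 8, 9), 0, 1, 5),
  ((4, 8, 10), 0, 5, 7), ((4, 8, 11), 0, 0, 4), ((4, 9, 10), 2, 2, 5), ((4, 9, 11), 3, 1, 8), ((4, 10, 11), 0, 9, 7), ((5, 6, 7), 1, 0, 6),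
  ((5, 6, 8), 0, 10, 2), ((5, 6, 9), 0, 7, 7), ((5, 6, 10), 0, 2, 4), ((5, 6, 11), 0, 2, 7), ((5, 7, 8), 1, 0, 7), ((5, 7, 9), 0, 2, 5),
  ((5, 7, 10), 0, 6, 2), ((5, 7, 11), 0, 3, 9), ((5, 8, 9), 0, 5, 3), ((5, 8, 10), 0, 0, 6), ((5, 8, 11), 0, 0, 5), ((5, 9, 10), 0, 0, 7),
  ((5, 9, 11), 6, 6, 2), ((5, 10, 11), 2, 0, 4), ((6, 7, 8), 5, 6, 2), ((6, 7, 9), 0, 1, 7), ((6, 7, 10), 0, 0, 0), ((6, 7, 11), 1, 10, 7),
  ((6, 8, 9), 0, 2, 9), ((6, 8, 10), 2, 0, 6), ((6, 8, 11), 0, 6, 7), ((6, 9, 10), 0, 4, 2), ((6, 9, 11), 0, 0, 6), ((6, 10, 11), 0, 6, 10),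
  ((7, 8, 9), 3, 0, 1), ((7, 8, 10), 0, 3, 4), ((7, 8, 11), 0, 4, 10), ((7, 9, 10), 0, 0, 8), ((7, 9, 11), 1, 5, 9), ((7, 10, 11), 1, 2, 8),
  ((8, 9, 10), 4, 6, 2), ((8, 9, 11), 0, 1, 2), ((8, 10, 11), 0, 2, 2), ((9, 10, 11), 2, 0, 1)]

/-- the weight of a triple -/
def sw (t : Fin 12 × Fin 12 × Fin 12) : V := fun i => W t.1 i + W t.2.1 i + W t.2.2 i

/-- the code of a weight -/
def code (w : V) : ℕ := 3 * (3 * (3 * (3 * (3 * (w 0).val + (w 1).val) + (w 2).val) + (w 3).val) + (w 4).val) + (w 5).val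

theorem code_inj {w w' : V} (h : code w = code w') : w = w' := by
  unfold code at h
  have b : ∀ i, (w i).val < 3 := fun i => ZMod.val_lt _
  have b' : ∀ i, (w' i).val < 3 := fun i => ZMod.val_lt _
  have b0 := b 0
  have b1 := b 1
  have b2 := b 2
  have b3 := b 3
  have b4 := b 4
  have b5 := b 5
  have c0 := b' 0
  have c1 := b' 1
  have c2 := b' 2
  have c3 := b' 3
  have c4 := b' 4
  have c5 := b' 5
  have h0 : (w 0).val = (w' 0).val := by omega
  have h1 : (w 1).val = (w' 1).val := by omega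
  have h2 : (w 2).val = (w' 2).val := by omega
  have h3 : (w 3).val = (w' 3).val := by omega
  have h4 : (w 4).val = (w' 4).val := by omega
  have h5 : (w 5).val = (w' 5).val := by omega
  funext i
  apply ZMod.val_injective 3
  match i with
  | 0 => exact h0
  | 1 => exact h1
  | 2 => exact h2
  | 3 => exact h3
  | 4 => exact h4
  | 5 => exact h5

/-- the base -/
def w0 : V := sw (0, 1, 2)

/-- the step -/
def stp (p : Fin 12 → Fin 12) (t : Fin 12 × Fin 12 × Fin 12) : Fin 12 × Fin 12 × Fin 12 := (p t.1, p t.2.1, p t.2.2)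

/-- the word -/
def act (k m l : ℕ) (t : Fin 12 × Fin 12 × Fin 12) : Fin 12 × Fin 12 × Fin 12 :=
  (stp p11)^[l] (stp p7 ((stp p11)^[m] (stp p7 ((stp p11)^[k] t))))

theorem tb_ok : (tb.all fun r => code (sw (act r.2.1 r.2.2.1 r.2.2.2 r.1)) == code w0) = true := by decide +kernel

theorem tb_P3 : (P3 Wl).map code = tb.map fun r => code (sw r.1) := by decide +kernel

theorem count_base : ((P3 Wl).map code).count (code w0) = 2 := by decide +kernel

theorem sw_step7 (t : Fin 12 × Fin 12 × Fin 12) : Mv f (lam (sw t)) (lam (sw (stp p7 t))) := by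
  have h := mv7 (sw t)
  have h1 : trp c7 (sw t) = sw (stp p7 t) := by
    have h2 : sw t = W t.1 + W t.2.1 + W t.2.2 := rfl
    rw [h2]
    funext j
    show pr (W t.1 + W t.2.1 + W t.2.2) (c7 j) = _
    rw [pr_add_left, pr_add_left]
    show trp c7 (W t.1) j + trp c7 (W t.2.1) j + trp c7 (W t.2.2) j = _
    rw [trp_W7, trp_W7, trp_W7]
    rfl
  rwa [h1] at h

theorem sw_step11 (t : Fin 12 × Fin 12 × Fin 12) : Mv f (lam (sw t)) (lam (sw (stp p11 t))) := by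
  have h := mv11 (sw t)
  have h1 : trp c11 (sw t) = sw (stp p11 t) := by
    have h2 : sw t = W t.1 + W t.2.1 + W t.2.2 := rfl
    rw [h2]
    funext j
    show pr (W t.1 + W t.2.1 + W t.2.2) (c11 j) = _
    rw [pr_add_left, pr_add_left]
    show trp c11 (W t.1) j + trp c11 (W t.2.1) j + trp c11 (W t.2.2) j = _
    rw [trp_W11, trp_W11, trp_W11]
    rfl
  rwa [h1] at h

theorem sw_iter (k : ℕ) (t : Fin 12 × Fin 12 × Fin 12) : Mv f (lam (sw t)) (lam (sw ((stp p11)^[k] t))) := by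
  induction k generalizing t with
  | zero => exact Mv.refl _ _
  | succ k ih =>
    rw [Function.iterate_succ_apply]
    exact (sw_step11 t).trans (ih _)

theorem sw_act (k m l : ℕ) (t : Fin 12 × Fin 12 × Fin 12) : Mv f (lam (sw t)) (lam (sw (act k m l t))) :=
  ((((sw_iter k t).trans (sw_step7 _)).trans (sw_iter m _)).trans (sw_step7 _)).trans (sw_iter l _)

theorem mem_tb {w : V} (h : w ∈ P3 Wl) : ∃ r ∈ tb, w = sw r.1 := by
  have h1 : code w ∈ (P3 Wl).map code := List.mem_map_of_mem h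
  rw [tb_P3] at h1
  obtain ⟨r, hr, h2⟩ := List.mem_map.1 h1
  exact ⟨r, hr, (code_inj h2).symm⟩

theorem mv_tb {r : (Fin 12 × Fin 12 × Fin 12) × ℕ × ℕ × ℕ} (hr : r ∈ tb) : Mv f (lam (sw r.1)) (lam w0) := by
  have h1 := List.all_eq_true.1 tb_ok r hr
  have h2 : sw (act r.2.1 r.2.2.1 r.2.2.2 r.1) = w0 := code_inj (by simpa using h1)
  rw [← h2]
  exact sw_act _ _ _ _

theorem mv_base {w : V} (h : w ∈ P3 Wl) : Mv f (lam w) (lam w0) := by
  obtain ⟨r, hr, rfl⟩ := mem_tb h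
  exact mv_tb hr

theorem count_w0 : (P3 Wl).count w0 = 2 := by
  rw [← count_base, List.count_map_of_injective _ _ (fun a b h => code_inj h)]

/-! ### the constituents -/

theorem A3_f : A3 ∘ f = ∑ w, ((P3 Wl).count w : ℂ) • lam w := by
  funext v
  rw [Function.comp_apply, A3_fl, Finset.sum_apply]
  have h : ∀ l : List V, (l.map fun w => lam w v).sum = ∑ w, ((l.count w : ℕ) : ℂ) * lam w v := by
    intro l
    induction l with
    | nil => simp
    | cons a l ih =>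
      rw [List.map_cons, List.sum_cons, ih]
      have h1 : ∀ w : V, (((a :: l).count w : ℕ) : ℂ) * lam w v = (if a = w then lam w v else 0) +
          ((l.count w : ℕ) : ℂ) * lam w v := by
        intro w
        rw [List.count_cons]
        by_cases hw : a = w
        · subst hw
          simp
          ring
        · rw [if_neg hw, if_neg (by simpa using hw)]
          simp
      rw [Finset.sum_congr rfl fun w _ => h1 w, Finset.sum_add_distrib, Finset.sum_ite_eq Finset.univ a,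
        if_pos (Finset.mem_univ _)]
  exact h _

theorem inner_lam [Fintype C] (w : V) : classInner (A3 ∘ f) (lam w) = ((P3 Wl).count w : ℕ) := by
  rw [A3_f, classInner_sum_left, Finset.sum_eq_single w]
  · rw [classInner_smul_left, classInner_irr_self (isIrr_lam w), mul_one]
  · intro w' _ hw'
    rw [classInner_smul_left, classInner_irr_ne (isIrr_lam w') (isIrr_lam w) (fun h => hw' (lam_injective h)), mul_zero]
  · intro h
    exact absurd (Finset.mem_univ w) h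

theorem K3 [Fintype C] {α : C → ℂ} (hα : IsIrrCharacter C α) (h0 : classInner A3 α ≠ 0) : α 1 = 110 ∨ α 1 = 220 := by
  classical
  have : Finite (IrrCharacter C) := finite_irr
  have := Fintype.ofFinite (IrrCharacter C)
  obtain ⟨mm, hmm⟩ := exists_nat_comb isCharacter_A3
  have hmult : ∀ χ : IrrCharacter C, ∃ c : V → ℕ, (∀ w, classInner ((χ : C → ℂ) ∘ f) (lam w) = c w) ∧
      (χ : C → ℂ) ∘ f = ∑ w, (c w : ℂ) • lam w := fun χ => exists_mult (isCharacter_comp f (isIrr_isCharacter χ.2))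
  choose n hn1 hn2 using hmult
  have hval : A3 = ∑ χ : IrrCharacter C, (mm χ : ℂ) • (χ : C → ℂ) := by
    funext g
    rw [hmm]
    simp [Finset.sum_apply]
  have hsum : ∀ w : V, (P3 Wl).count w = ∑ χ : IrrCharacter C, mm χ * n χ w := by
    intro w
    have h1 : A3 ∘ f = ∑ χ : IrrCharacter C, (mm χ : ℂ) • ((χ : C → ℂ) ∘ f) := by
      funext e
      rw [Function.comp_apply, hval]
      simp [Finset.sum_apply]
    have h2 := inner_lam w
    rw [h1, classInner_sum_left] at h2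
    have h3 : ((∑ χ : IrrCharacter C, mm χ * n χ w : ℕ) : ℂ) = (((P3 Wl).count w : ℕ) : ℂ) := by
      rw [← h2]
      push_cast
      exact Finset.sum_congr rfl fun χ _ => by rw [classInner_smul_left, hn1]
    exact_mod_cast h3.symm
  let a : IrrCharacter C := ⟨α, hα⟩
  have hma : mm a ≠ 0 := by
    intro h
    apply h0
    rw [hval, classInner_sum_left]
    refine Finset.sum_eq_zero fun χ _ => ?_
    rw [classInner_smul_left]
    by_cases hχ : χ = a
    · rw [hχ, h, Nat.cast_zero, zero_mul]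
    · rw [classInner_irr_ne χ.2 hα (fun h' => hχ (Subtype.ext h')), mul_zero]
  have hle : ∀ w, n a w ≤ (P3 Wl).count w := by
    intro w
    rw [hsum]
    calc n a w ≤ mm a * n a w := Nat.le_mul_of_pos_left _ (Nat.pos_of_ne_zero hma)
      _ ≤ _ := Finset.single_le_sum (f := fun χ : IrrCharacter C => mm χ * n χ w) (fun _ _ => Nat.zero_le _)
        (Finset.mem_univ a)
  have hcl : ∀ {β : C → ℂ}, IsCharacter C β → ∀ g h : C, β (g * h * g⁻¹) = β h :=
    fun hβ g h => isCharacter_isClassFunction hβ h g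
  have hkey : ∀ w, 2 * n a w = n a w0 * (P3 Wl).count w := by
    intro w
    by_cases hw : w ∈ P3 Wl
    · have h1 := mv_base hw
      have h2 := h1.inner (hcl isCharacter_A3)
      rw [inner_lam, inner_lam] at h2
      have h3 : (P3 Wl).count w0 = (P3 Wl).count w := by exact_mod_cast h2
      have h4 := h1.inner (hcl (isIrr_isCharacter hα))
      have h5 : n a w0 = n a w := by
        have e1 := hn1 a w0
        have e2 := hn1 a w
        have h6 : ((n a w0 : ℕ) : ℂ) = ((n a w : ℕ) : ℂ) := by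
          rw [← e1, ← e2]
          exact h4
        exact_mod_cast h6
      rw [← h3, count_w0, h5]
      ring
    · have h1 : (P3 Wl).count w = 0 := List.count_eq_zero.2 hw
      have h2 := hle w
      rw [h1] at h2 ⊢
      omega
  have hA : ∑ w, (P3 Wl).count w = 220 := by
    have h1 := congrFun A3_f 1
    rw [Function.comp_apply, map_one, A3_one, Finset.sum_apply] at h1
    have h2 : ∀ w : V, (((P3 Wl).count w : ℂ) • lam w) 1 = ((P3 Wl).count w : ℕ) := by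
      intro w
      rw [Pi.smul_apply, smul_eq_mul]
      have : lam w 1 = 1 := (lamH w).map_one
      rw [this, mul_one]
    rw [Finset.sum_congr rfl fun w _ => h2 w] at h1
    exact_mod_cast h1.symm
  have hα1 : α 1 = ((∑ w, n a w : ℕ) : ℂ) := by
    have h1 := congrFun (hn2 a) 1
    rw [Function.comp_apply, map_one, Finset.sum_apply] at h1
    have h2 : ∀ w : V, ((n a w : ℂ) • lam w) 1 = (n a w : ℕ) := by
      intro w
      rw [Pi.smul_apply, smul_eq_mul]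
      have : lam w 1 = 1 := (lamH w).map_one
      rw [this, mul_one]
    rw [Finset.sum_congr rfl fun w _ => h2 w] at h1
    push_cast
    exact h1
  have h3 : 2 * ∑ w, n a w = n a w0 * 220 := by
    rw [Finset.mul_sum, Finset.sum_congr rfl fun w _ => hkey w, ← Finset.mul_sum, hA]
  have h4 : n a w0 ≤ 2 := by
    have := hle w0
    rwa [count_w0] at this
  have h5 : ∑ w, n a w ≠ 0 := by
    intro h
    have h6 := isIrr_apply_one_ne_zero hα
    rw [hα1, h, Nat.cast_zero] at h6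
    exact h6 rfl
  rcases (by omega : ∑ w, n a w = 110 ∨ ∑ w, n a w = 220) with h | h
  · left
    rw [hα1, h]
    norm_num
  · right
    rw [hα1, h]
    norm_num

end Cfsg.Agent.H859.S8.SuzTri
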